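import Groth.Agent.Lib.QA11.Basic
import Mathlib.AlgebraicGeometry.QuasiAffine
import Mathlib.AlgebraicGeometry.Morphisms.Flat
import Mathlib.AlgebraicGeometry.Morphisms.FlatDescent
import Mathlib.AlgebraicGeometry.Morphisms.Descent
import Mathlib.AlgebraicGeometry.Morphisms.QuasiSeparated
import Mathlib.AlgebraicGeometry.Morphisms.UniversallyOpen

/-!
# Quasi-affineness descends along flat surjective morphisms
-/

universe u

open CategoryTheory CategoryTheory.Limits AlgebraicGeometry

namespace Groth.Agent.QADesc18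

variable {X Y : Scheme.{u}}

/-- The affinization commutes with flat affine base change. -/
theorem isOpenImmersion_snd_toSpecΓ {S T : Scheme.{u}} [IsAffine S] [IsAffine T] (f : X ⟶ S) [QuasiCompact f]
    [QuasiSeparated f] (u : T ⟶ S) [Flat u] [(pullback f u).IsQuasiAffine] :
    IsOpenImmersion (pullback.snd X.toSpecΓ (pullback.fst (Spec.map f.appTop ≫ S.isoSpec.inv) u)) := by
  haveI := QuasiCompact.compactSpace_of_compactSpace f
  let p := Spec.map f.appTop ≫ S.isoSpec.inv
  have hp : X.toSpecΓ ≫ p = f := by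
    simp only [p]
    rw [← Category.assoc, ← Scheme.toSpecΓ_naturality, Category.assoc, ← Scheme.isoSpec_hom, Iso.hom_inv_id,
      Category.comp_id]
  haveI : IsAffineHom (pullback.fst p u) := inferInstance
  haveI : IsAffine (pullback p u) := isAffine_of_isAffineHom (pullback.fst p u)
  let m : pullback f u ⟶ pullback p u :=
    pullback.lift (pullback.fst f u ≫ X.toSpecΓ) (pullback.snd f u)
      (by rw [Category.assoc, hp, pullback.condition])
  have hQ := isPushout_appTop_of_isPullback (IsPullback.of_hasPullback p u)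
  haveI : IsIso X.toSpecΓ.appTop := by rw [Scheme.toSpecΓ_appTop]; infer_instance
  have hY : IsPushout f.appTop u.appTop (pullback.fst f u).appTop (pullback.snd f u).appTop := by
    have hP := (IsPullback.of_hasPullback f u)
    have := (isIso_pushoutSection_iff hP (US := ⊤) (UT := ⊤) (UX := ⊤) (by simp) (by simp)
      (UY := ⊤) (by simp)).1 (isIso_pushoutSection_of_isQuasiSeparated_of_flat_right hP _ _ _
        (isAffineOpen_top S) (isAffineOpen_top T) isCompact_univ
        (by
          haveI : QuasiSeparatedSpace X := quasiSeparatedSpace_of_quasiSeparated f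
          exact isQuasiSeparated_univ))
    simpa [Scheme.Hom.appLE] using this
  have hY' : IsPushout p.appTop u.appTop (X.toSpecΓ.appTop ≫ (pullback.fst f u).appTop)
      (pullback.snd f u).appTop := by
    refine hY.of_iso (.refl _) (asIso X.toSpecΓ.appTop).symm (.refl _) (.refl _) ?_ ?_ ?_ ?_
    · simp only [Iso.refl_hom, Category.id_comp, Iso.symm_hom, asIso_inv, IsIso.comp_inv_eq]
      rw [← Scheme.Hom.comp_appTop, hp]
    all_goals simp
  haveI : IsIso m.appTop := by
    have : m.appTop = (hQ.isoIsPushout _ _ hY').hom := by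
      apply hQ.hom_ext
      · rw [IsPushout.inl_isoIsPushout_hom, ← Scheme.Hom.comp_appTop, pullback.lift_fst, Scheme.Hom.comp_appTop]
      · rw [IsPushout.inr_isoIsPushout_hom, ← Scheme.Hom.comp_appTop, pullback.lift_snd]
    rw [this]; infer_instance
  haveI : IsOpenImmersion m := by
    have e : m = (pullback f u).toSpecΓ ≫ Spec.map m.appTop ≫ (pullback p u).isoSpec.inv := by
      rw [← Scheme.toSpecΓ_naturality_assoc, Scheme.toSpecΓ_isoSpec_inv, Category.comp_id]
    rw [e]
    infer_instance
  have sq : IsPullback (pullback.fst f u) m X.toSpecΓ (pullback.fst p u) := by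
    refine IsPullback.of_bot ?_ (pullback.lift_fst _ _ _).symm (IsPullback.of_hasPullback p u)
    rw [pullback.lift_snd, hp]
    exact IsPullback.of_hasPullback f u
  rw [← sq.isoPullback_inv_snd]
  infer_instance

/-- Quasi-affine schemes descend along flat surjective maps of affine schemes. -/
theorem isQuasiAffine_of_flat_cover {S T : Scheme.{u}} [IsAffine S] [IsAffine T] (f : X ⟶ S) [QuasiCompact f]
    [QuasiSeparated f] (g : T ⟶ S) [Flat g] [Surjective g] [(pullback f g).IsQuasiAffine] : X.IsQuasiAffine := by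
  let p := Spec.map f.appTop ≫ S.isoSpec.inv
  haveI := QuasiCompact.compactSpace_of_compactSpace f
  haveI := isOpenImmersion_snd_toSpecΓ f g
  have hq : (@Surjective ⊓ @Flat ⊓ @QuasiCompact : MorphismProperty Scheme.{u}) (pullback.fst p g) :=
    ⟨⟨inferInstance, inferInstance⟩, inferInstance⟩
  haveI : IsOpenImmersion X.toSpecΓ :=
    MorphismProperty.of_pullback_snd_of_descendsAlong (P := @IsOpenImmersion)
      (Q := @Surjective ⊓ @Flat ⊓ @QuasiCompact) hq ‹IsOpenImmersion (pullback.snd X.toSpecΓ (pullback.fst p g))›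
  constructor

/-- The same for any quasi-compact cover. -/
theorem isQuasiAffine_of_cover {S T : Scheme.{u}} [IsAffine S] (f : X ⟶ S) [QuasiCompact f]
    [QuasiSeparated f] (g : T ⟶ S) [Flat g] [Surjective g] [QuasiCompact g]
    (h : Mor2.IsQuasiAffine (pullback.snd f g)) : X.IsQuasiAffine := by
  haveI : CompactSpace T := QuasiCompact.compactSpace_of_compactSpace g
  let 𝒰 := T.affineCover.finiteSubcover
  let q : ∐ (fun i : 𝒰.I₀ ↦ 𝒰.X i) ⟶ T := Sigma.desc fun i ↦ 𝒰.f i
  haveI : Surjective q := ⟨fun x => by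
    obtain ⟨i, x, rfl⟩ := 𝒰.exists_eq x
    exact ⟨Sigma.ι 𝒰.X i x, by rw [← Scheme.Hom.comp_apply, Sigma.ι_desc]⟩⟩
  haveI : Flat q := by
    rw [IsZariskiLocalAtSource.iff_of_openCover (P := @Flat) (sigmaOpenCover _)]
    intro i
    have : (sigmaOpenCover 𝒰.X).f i ≫ q = 𝒰.f i := Sigma.ι_desc _ _
    rw [this]
    haveI : IsOpenImmersion (𝒰.f i) := 𝒰.map_prop i
    exact IsZariskiLocalAtSource.of_isOpenImmersion _
  haveI : IsAffine (∐ fun i : 𝒰.I₀ ↦ 𝒰.X i) := inferInstance
  haveI : (pullback f (q ≫ g)).IsQuasiAffine := by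
    haveI : (pullback (pullback.snd f g) q).IsQuasiAffine := by
      haveI : Scheme.IsQuasiAffine (⊤ : (pullback (pullback.snd f g) q).Opens).toScheme :=
        (QA11.baseChange h q).2 ⊤ (isAffineOpen_top _)
      exact QA11.isQuasiAffine_of_iso (Scheme.topIso _).inv
    exact QA11.isQuasiAffine_of_iso (pullbackLeftPullbackSndIso f g q).inv
  exact isQuasiAffine_of_flat_cover f (q ≫ g)

/-- Quasi-compactness descends along surjective maps. -/
instance descendsAlong_quasiCompact :
    MorphismProperty.DescendsAlong @QuasiCompact (@Surjective ⊓ @Flat ⊓ @QuasiCompact) where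
  of_isPullback {A X Y Z fst snd f g} h hQ hfst := by
    obtain ⟨⟨hs, _⟩, hqc⟩ := hQ
    haveI := hs
    haveI := hqc
    haveI : QuasiCompact fst := hfst
    haveI : Surjective snd := MorphismProperty.of_isPullback (P := @Surjective) h ‹Surjective f›
    refine ⟨fun U hUo hU => ?_⟩
    have h1 : IsCompact ((fst ≫ f) ⁻¹' U) := Scheme.Hom.isCompact_preimage (U := ⟨U, hUo⟩) _ hU
    rw [h.w] at h1
    have h2 : g ⁻¹' U = snd '' ((snd ≫ g) ⁻¹' U) := by
      rw [Scheme.Hom.comp_base, TopCat.coe_comp, Set.preimage_comp, Set.image_preimage_eq _ snd.surjective]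
    exact h2 ▸ h1.image snd.continuous

instance descendsAlong_quasiSeparated :
    MorphismProperty.DescendsAlong @QuasiSeparated (@Surjective ⊓ @Flat ⊓ @QuasiCompact) := by
  rw [quasiSeparated_eq_diagonal_is_quasiCompact]
  infer_instance

theorem isQuasiAffineHom_of_isPullback {A W Y Z : Scheme.{u}} {fst : A ⟶ W} {snd : A ⟶ Y} {f : W ⟶ Z}
    {g : Y ⟶ Z} (h : IsPullback fst snd f g) [Flat f] [Surjective f] [QuasiCompact f]
    (hfst : Mor2.IsQuasiAffine fst) : Mor2.IsQuasiAffine g := by
  haveI := hfst.1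
  have hQ : (@Surjective ⊓ @Flat ⊓ @QuasiCompact : MorphismProperty Scheme.{u}) f :=
    ⟨⟨inferInstance, inferInstance⟩, inferInstance⟩
  haveI : QuasiCompact g := MorphismProperty.of_isPullback_of_descendsAlong h hQ ‹QuasiCompact fst›
  haveI : QuasiSeparated g := by
    refine MorphismProperty.of_isPullback_of_descendsAlong (P := @QuasiSeparated) h hQ ?_
    haveI : IsSeparated fst := by
      rw [IsZariskiLocalAtTarget.iff_of_iSup_eq_top (P := @IsSeparated) (fun V : W.affineOpens => (V : W.Opens))
        (iSup_affineOpens_eq_top W)]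
      intro V
      haveI := hfst.2 V V.2
      haveI : (fst ⁻¹ᵁ (V : W.Opens)).toScheme.IsSeparated := inferInstance
      haveI : IsSeparated ((fst ∣_ (V : W.Opens)) ≫ terminal.from _) := by
        rw [terminal.comp_from]; exact this.isSeparated_terminal_from
      exact IsSeparated.of_comp (fst ∣_ (V : W.Opens)) (terminal.from _)
    infer_instance
  refine ⟨inferInstance, fun V hV => ?_⟩
  haveI : IsAffine V.toScheme := hV
  haveI : Surjective (f ∣_ V) := IsZariskiLocalAtTarget.restrict (P := @Surjective) ‹Surjective f› V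
  refine isQuasiAffine_of_cover (g ∣_ V) (f ∣_ V) ?_
  have big : IsPullback (pullback.fst (g ∣_ V) (f ∣_ V) ≫ (g ⁻¹ᵁ V).ι) (pullback.snd (g ∣_ V) (f ∣_ V))
      g ((f ⁻¹ᵁ V).ι ≫ f) := by
    rw [← morphismRestrict_ι]
    exact (IsPullback.of_hasPullback (g ∣_ V) (f ∣_ V)).paste_horiz (isPullback_morphismRestrict g V).flip
  have top : IsPullback (pullback.fst fst (f ⁻¹ᵁ V).ι ≫ snd) (pullback.snd fst (f ⁻¹ᵁ V).ι)
      g ((f ⁻¹ᵁ V).ι ≫ f) :=
    (IsPullback.of_hasPullback fst (f ⁻¹ᵁ V).ι).paste_horiz h.flip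
  let e := big.isoIsPullback _ _ top
  have he : pullback.snd (g ∣_ V) (f ∣_ V) = e.hom ≫ pullback.snd fst (f ⁻¹ᵁ V).ι :=
    (IsPullback.isoIsPullback_hom_snd _ _ big top).symm
  rw [he]
  haveI := QA11.baseChange hfst (f ⁻¹ᵁ V).ι
  exact QA11.comp ⟨inferInstance, fun U hU => by
    haveI : IsAffineHom e.hom := inferInstance
    haveI : IsAffine U.toScheme := hU
    haveI : IsAffine (e.hom ⁻¹ᵁ U).toScheme := hU.preimage e.hom
    infer_instance⟩ this

end Groth.Agent.QADesc18
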